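import Groth.Agent.MultImage.Image
import Groth.Agent.SubDesc.Family
import Groth.Agent.MaxTorus.Construct
import Groth.Agent.MaxTorus.LocSplit
import Groth.Agent.ASp.Fpqc
/-!
Gluing local images of a homomorphism.
-/

set_option autoImplicit false
set_option backward.isDefEq.respectTransparency false
set_option backward.isDefEq.respectTransparency.types false
set_option linter.style.haveILetI false
set_option linter.unusedSectionVars false

universe u

open CategoryTheory CategoryTheory.Limits MonoidalCategory CartesianMonoidalCategory MonObj AlgebraicGeometry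

noncomputable section

namespace Groth.Agent.MultImage

open FixedSmooth HomTriv DSMapLib QuotTorus MaxTorus

variable {S : Scheme.{u}} {H G : Over S} [GrpObj H] [GrpObj G] (f : H ⟶ G) [IsMonHom f]

/-- An image of `f` over `g`. -/
structure ImPiece {V : Scheme.{u}} (g : V ⟶ S) where
  Q : Grp (Over V)
  q : Red.bc g H ⟶ Q.X
  j : Q.X ⟶ Red.bc g G
  fpqc : SchDesc.IsFpqc q.left
  hom : IsMonHom j
  closed : IsClosedImmersion j.left
  eq : q ≫ j = (Over.pullback g).map f

variable {f}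

/-- Points of a piece move to another piece. -/
theorem ImPiece.move {U U' : Scheme.{u}} {g : U ⟶ S} {g' : U' ⟶ S} (P : ImPiece f g) (P' : ImPiece f g')
    {T : Scheme.{u}} (a : T ⟶ U) (b : T ⟶ U') (h : a ≫ g = b ≫ g') (v : T ⟶ P.Q.X.left) (hv : v ≫ P.Q.X.hom = a) :
    ∃ w : T ⟶ P'.Q.X.left, w ≫ P'.Q.X.hom = b ∧
      w ≫ P'.j.left ≫ pullback.fst G.hom g' = v ≫ P.j.left ≫ pullback.fst G.hom g := by
  haveI := P.hom
  haveI := P'.hom
  let q := (Over.pullback a).map P.q
  let u := (Over.pullback a).map P.j ≫ (ActBC.bcCompIso a g G rfl).hom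
  let m := (Over.pullback b).map P'.j ≫ (ActBC.bcCompIso b g' G h.symm).hom
  haveI : Mono P'.j.left := by haveI := P'.closed; infer_instance
  haveI : Mono P'.j := Over.mono_of_mono_left _
  haveI : Mono ((Over.pullback b).map P'.j) := Functor.map_mono _ _
  haveI : Mono m := inferInstance
  haveI : SchDesc.IsFpqc q.left := by
    haveI := P.fpqc
    exact SchDesc.IsFpqc.of_isPullback (isPullback_bc a P.q)
  let α := (ActBC.bcCompIso a g H rfl).hom ≫ (ActBC.bcCompIso b g' H h.symm).inv ≫ (Over.pullback b).map P'.q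
  have hα : q ≫ u = α ≫ m := by
    simp only [q, u, α, m, Category.assoc]
    rw [← Functor.map_comp_assoc, P.eq, ← Functor.map_comp_assoc, P'.eq, ActBC.bcCompIso_hom_naturality,
      ActBC.bcCompIso_hom_naturality, Iso.inv_hom_id_assoc]
  obtain ⟨k, hk⟩ := GrpQuotLib.exists_desc q α fun X x y e => by
    rw [← cancel_mono m, Category.assoc x α m, Category.assoc y α m, ← hα, reassoc_of% e]
  haveI : Epi q := GrpQuotLib.epi_of_isFpqc _
  have hkm : k ≫ m = u := (cancel_epi q).1 (by rw [reassoc_of% hk, hα])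
  let s : Over.mk (𝟙 T) ⟶ Red.bc a P.Q.X :=
    Over.homMk (pullback.lift v (𝟙 T) (hv.trans (Category.id_comp a).symm)) (pullback.lift_snd _ _ _)
  refine ⟨(s ≫ k).left ≫ pullback.fst _ b, ?_, ?_⟩
  · rw [Category.assoc, pullback.condition, ← Category.assoc,
      show (s ≫ k).left ≫ pullback.snd _ b = 𝟙 T from Over.w (s ≫ k), Category.id_comp]
  · have e := congrArg (fun z => CommaMorphism.left (s ≫ z) ≫ pullback.fst G.hom (a ≫ g)) hkm
    simp only [m, u, Over.comp_left, Category.assoc] at e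
    rw [ActBC.bcCompIso_hom_left_fst, ActBC.bcCompIso_hom_left_fst, ActBC.pullback_map_left_fst_assoc,
      ActBC.pullback_map_left_fst_assoc] at e
    rw [Over.comp_left]
    simp only [Category.assoc]
    refine e.trans ?_
    exact (pullback.lift_fst_assoc v (𝟙 T) _ _)

theorem prop_of_pieces (P : MorphismProperty Scheme.{u}) [IsZariskiLocalAtTarget P]
    [P.DescendsAlong (@Surjective ⊓ @Flat ⊓ @QuasiCompact)] [P.IsStableUnderBaseChange] {T T' : Over S} (i : T ⟶ T')
    {S' : Scheme.{u}} (π : S' ⟶ S) [Flat π]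
    (hqc : ∀ V : S.Opens, IsAffineOpen V → ∃ W : S'.Opens, IsCompact (W : Set S') ∧ π.base '' (W : Set S') = (V : Set S))
    (hloc : ∀ x : S', ∃ U : S'.Opens, x ∈ U ∧ P ((Over.pullback (U.ι ≫ π)).map i).left) : P i.left := by
  refine descend_over P i π hqc fun x => ?_
  obtain ⟨U, hU, hP⟩ := hloc x
  refine ⟨U, hU, fun R q => ?_⟩
  haveI : P.RespectsIso := inferInstance
  have h := MorphismProperty.of_isPullback (P := P) (isPullback_bc q ((Over.pullback (U.ι ≫ π)).map i)) hP
  have e : ((Over.pullback q).map ((Over.pullback (U.ι ≫ π)).map i)).left ≫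
      (ActBC.bcCompIso q (U.ι ≫ π) T' rfl).hom.left = (ActBC.bcCompIso q (U.ι ≫ π) T rfl).hom.left ≫
        ((Over.pullback (q ≫ U.ι ≫ π)).map i).left :=
    congrArg CommaMorphism.left (ActBC.bcCompIso_hom_naturality q (U.ι ≫ π) rfl i)
  haveI : IsIso (ActBC.bcCompIso q (U.ι ≫ π) T' rfl).hom.left :=
    inferInstanceAs (IsIso ((Over.forget _).mapIso (ActBC.bcCompIso q (U.ι ≫ π) T' rfl)).hom)
  haveI : IsIso (ActBC.bcCompIso q (U.ι ≫ π) T rfl).hom.left :=
    inferInstanceAs (IsIso ((Over.forget _).mapIso (ActBC.bcCompIso q (U.ι ≫ π) T rfl)).hom)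
  rwa [← MorphismProperty.cancel_right_of_respectsIso P _ (ActBC.bcCompIso q (U.ι ≫ π) T' rfl).hom.left, e,
    MorphismProperty.cancel_left_of_respectsIso P] at h

theorem surjective_of_pieces {T T' : Over S} (i : T ⟶ T') {S' : Scheme.{u}} (π : S' ⟶ S) [Surjective π]
    (U : S' → S'.Opens) (hU : ∀ x, x ∈ U x) (h : ∀ x, Surjective ((Over.pullback ((U x).ι ≫ π)).map i).left) :
    Surjective i.left := by
  refine ⟨fun y => ?_⟩
  obtain ⟨x, hx⟩ := π.surjective (T'.hom y)
  obtain ⟨z, hz, -⟩ := Scheme.Pullback.exists_preimage_pullback (f := T'.hom) (g := (U x).ι ≫ π) y ⟨x, hU x⟩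
    (by rw [Scheme.Hom.comp_apply]; exact hx.symm)
  obtain ⟨z', hz'⟩ := (h x).surj z
  refine ⟨pullback.fst T.hom ((U x).ι ≫ π) z', ?_⟩
  rw [← hz, ← hz']
  exact congrArg (fun k : _ ⟶ T'.left => k z') (isPullback_bc ((U x).ι ≫ π) i).w

/-- Local images glue. -/
theorem exists_image_of_pieces {S' : Scheme.{u}} (π : S' ⟶ S) [Flat π] [Surjective π]
    (hqc : ∀ V : S.Opens, IsAffineOpen V → ∃ W : S'.Opens, IsCompact (W : Set S') ∧ π.base '' (W : Set S') = (V : Set S))
    (U : S' → S'.Opens) (hU : ∀ x, x ∈ U x) (P : ∀ x, ImPiece f ((U x).ι ≫ π)) :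
    ∃ (Q : Over S) (_ : GrpObj Q) (j : Q ⟶ G) (_ : IsMonHom j) (f' : H ⟶ Q) (_ : IsMonHom f'),
      IsClosedImmersion j.left ∧ Flat f'.left ∧ Surjective f'.left ∧ f' ≫ j = f ∧
        ∀ x, Nonempty (Grp.mk (Red.bc ((U x).ι ≫ π) Q) ≅ (P x).Q) := by
  haveI := SubDesc.isFpqc_of_hcov π hqc
  have hf := SubDesc.mem_refine π U hU
  obtain ⟨Q, iQ, m, hm, hmono, he⟩ := exists_subgroup' (fun x : S' => (U x).ι ≫ π) hf (fun x => (P x).Q)
    (fun x => (P x).j) (fun x => (P x).hom) (fun x => (P x).closed) (fun a b h v hv => (P _).move (P _) a b h v hv)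
  choose e he using he
  haveI := hm
  haveI : Mono m := Over.mono_of_mono_left m
  have hinv : ∀ x, (e x).inv.hom.hom ≫ (Over.pullback ((U x).ι ≫ π)).map m = (P x).j := fun x => by
    rw [← he x, ← Category.assoc, show (e x).inv.hom.hom ≫ (e x).hom.hom.hom = 𝟙 _ from
      congrArg (fun k => k.hom.hom) (e x).inv_hom_id, Category.id_comp]
  obtain ⟨f', hf'⟩ := SubDesc.exists_factor_fam _ hf m f fun x =>
    ⟨(P x).q ≫ (e x).inv.hom.hom, by rw [Category.assoc, hinv, (P x).eq]⟩
  haveI : IsMonHom f' := CommGrpAbLib.isMonHom_of_mono m f' f hf'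
  have hbc : ∀ x, (Over.pullback ((U x).ι ≫ π)).map f' = (P x).q ≫ (e x).inv.hom.hom := fun x => by
    rw [← cancel_mono ((Over.pullback ((U x).ι ≫ π)).map m), ← Functor.map_comp, hf', Category.assoc, hinv, (P x).eq]
  have hiso : ∀ x, IsIso (e x).inv.hom.hom.left ∧ IsIso (e x).hom.hom.hom.left := fun x =>
    ⟨inferInstanceAs (IsIso ((Over.forget _).mapIso ((Grp.forget _).mapIso (e x))).inv),
      inferInstanceAs (IsIso ((Over.forget _).mapIso ((Grp.forget _).mapIso (e x))).hom)⟩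
  haveI := FpqcDesc.isClosedImmersion_descends.{u}
  haveI := ASp.flat_descends.{u}
  refine ⟨Q, iQ, m, hm, f', inferInstance, ?_, ?_, ?_, hf', fun x => ⟨e x⟩⟩
  · refine prop_of_pieces @IsClosedImmersion m π hqc fun x => ⟨U x, hU x, ?_⟩
    haveI := (hiso x).2
    haveI := (P x).closed
    rw [← he x]
    exact inferInstanceAs (IsClosedImmersion ((e x).hom.hom.hom.left ≫ (P x).j.left))
  · refine prop_of_pieces @Flat f' π hqc fun x => ⟨U x, hU x, ?_⟩
    haveI := (hiso x).1
    haveI := (P x).fpqc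
    rw [hbc x]
    exact inferInstanceAs (Flat ((P x).q.left ≫ (e x).inv.hom.hom.left))
  · refine surjective_of_pieces f' π U hU fun x => ?_
    haveI := (hiso x).1
    haveI := (P x).fpqc
    rw [hbc x]
    exact inferInstanceAs (Surjective ((P x).q.left ≫ (e x).inv.hom.hom.left))

/-- A piece over `T → V` gives one over the composite. -/
theorem exists_piece_comp {V T : Scheme.{u}} (g : V ⟶ S) (v : T ⟶ V) {d : T ⟶ S} (h : v ≫ g = d) {M : Type}
    [AddCommGroup M] (e : Grp.mk (Red.bc g H) ≅ Grp.mk (Red.DS V M)) {N : AddSubgroup M}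
    (j : Red.DS T N ⟶ Red.bc v (Red.bc g G)) (hj : IsMonHom j) (hjc : IsClosedImmersion j.left)
    (hjf : (dsBc v M).hom.hom.hom ≫ Red.DSmap T N.subtype ≫ j =
      (Over.pullback v).map (e.inv.hom.hom ≫ (Over.pullback g).map f)) :
    ∃ P : ImPiece f d, Nonempty (P.Q ≅ Grp.mk (Red.DS T N)) := by
  haveI := hj
  haveI := HomDesc.isMonHom_bcCompIso v g h G
  let c := (ActBC.bcCompIso v g H h).symm ≪≫ (Over.pullback v).mapIso ((Grp.forget _).mapIso e) ≪≫
    (Grp.forget _).mapIso (dsBc v M)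
  refine ⟨⟨Grp.mk (Red.DS T N), c.hom ≫ Red.DSmap T N.subtype, j ≫ (ActBC.bcCompIso v g G h).hom,
    isFpqc_comp_iso c _ (isFpqc_DSmap T _ N.subtype_injective), inferInstance, ?_, ?_⟩, ⟨Iso.refl _⟩⟩
  · haveI : IsIso (ActBC.bcCompIso v g G h).hom.left :=
      inferInstanceAs (IsIso ((Over.forget _).mapIso (ActBC.bcCompIso v g G h)).hom)
    haveI := hjc
    exact inferInstanceAs (IsClosedImmersion (j.left ≫ _))
  · show ((ActBC.bcCompIso v g H h).inv ≫ (Over.pullback v).map e.hom.hom.hom ≫ (dsBc v M).hom.hom.hom) ≫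
      Red.DSmap T N.subtype ≫ j ≫ (ActBC.bcCompIso v g G h).hom = _
    simp only [Category.assoc]
    rw [reassoc_of% hjf, ← Functor.map_comp_assoc, ← Category.assoc e.hom.hom.hom,
      show e.hom.hom.hom ≫ e.inv.hom.hom = 𝟙 _ from congrArg (fun k => k.hom.hom) e.hom_inv_id, Category.id_comp,
      ActBC.bcCompIso_hom_naturality, Iso.inv_hom_id_assoc]

end Groth.Agent.MultImage

namespace Groth.Agent.MultImage

open FixedSmooth HomTriv DSMapLib QuotTorus MaxTorus

variable {S : Scheme.{u}} {H G : Over S} [GrpObj H] [GrpObj G] (f : H ⟶ G) [IsMonHom f]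

/-- Over a chart where the source is diagonalisable there are images near every point. -/
theorem exists_piece_nhd [IsSeparated G.hom] [QuasiCompact G.hom] [LocallyOfFiniteType G.hom] {V : Scheme.{u}}
    (g : V ⟶ S) {M : Type} [AddCommGroup M] (e : Grp.mk (Red.bc g H) ≅ Grp.mk (Red.DS V M)) (x : V) :
    ∃ (W : V.Opens) (N : AddSubgroup M), x ∈ W ∧ IsClosed (W : Set V) ∧ N.FG ∧
      ∀ {T : Scheme.{u}} (v : T ⟶ V) (d : T ⟶ S), v ≫ g = d → Set.range v ⊆ (W : Set V) →
        ∃ P : ImPiece f d, Nonempty (P.Q ≅ Grp.mk (Red.DS T N)) := by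
  haveI : IsSeparated (Red.bc g G).hom := inferInstanceAs (IsSeparated (pullback.snd G.hom g))
  haveI : QuasiCompact (Red.bc g G).hom := inferInstanceAs (QuasiCompact (pullback.snd G.hom g))
  haveI : LocallyOfFiniteType (Red.bc g G).hom := inferInstanceAs (LocallyOfFiniteType (pullback.snd G.hom g))
  haveI : IsMonHom e.inv.hom.hom := e.inv.hom.isMonHom_hom
  obtain ⟨W, N, hx, hW, hN, hker⟩ := exists_kerIs_clopen (e.inv.hom.hom ≫ (Over.pullback g).map f) x
  refine ⟨W, N, hx, hW, hN, fun {T} v d h hv => ?_⟩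
  obtain ⟨j, hj, hjc, hjf⟩ := exists_image (e.inv.hom.hom ≫ (Over.pullback g).map f) hN hker v hv
  exact exists_piece_comp g v h e j hj hjc hjf

end Groth.Agent.MultImage
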