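import Groth.Agent.MultImage.Kernel
import Groth.Agent.MultClosed.Proper
/-!
The image of a homomorphism of a diagonalisable group into a separated group, on a clopen piece of the base.
-/

set_option autoImplicit false
set_option backward.isDefEq.respectTransparency false
set_option backward.isDefEq.respectTransparency.types false
set_option linter.style.haveILetI false
set_option linter.unusedSectionVars false

universe u

open CategoryTheory CategoryTheory.Limits MonoidalCategory CartesianMonoidalCategory MonObj AlgebraicGeometry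

noncomputable section

namespace Groth.Agent.MultImage

open FixedSmooth HomTriv DSMapLib QuotTorus MaxTorus

variable {S : Scheme.{u}}

theorem dsBc_natural {V : Scheme.{u}} (c : V ⟶ S) {M N : Type} [AddCommGroup M] [AddCommGroup N] (φ : M →+ N) :
    (Over.pullback c).map (Red.DSmap S φ) ≫ (dsBc c M).hom.hom.hom = (dsBc c N).hom.hom.hom ≫ Red.DSmap V φ := by
  refine hom_ext_affine _ _ fun D q z => ?_
  obtain ⟨z₀, rfl⟩ := (adjEquiv c (Red.DS S N) (Over.mk q)).surjective z
  obtain ⟨χ, rfl⟩ := (dsPt N (q ≫ c)).surjective z₀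
  rw [← Category.assoc, ← Category.assoc, ← adjEquiv_comp, dsPt_comp, dsPt_bc, dsPt_bc, dsPt_comp]

variable {G : Over S} [GrpObj G] {M : Type} [AddCommGroup M] [IsSeparated G.hom] [LocallyOfFiniteType G.hom]

/-- Every point has a clopen neighbourhood on which the kernel is cut out by a group of characters. -/
theorem exists_kerIs_clopen (w : Red.DS S M ⟶ G) [IsMonHom w] (s : S) :
    ∃ (U : S.Opens) (N : AddSubgroup M), s ∈ U ∧ IsClosed (U : Set S) ∧ N.FG ∧ KerIs w U N := by
  obtain ⟨V, N, hsV, hN, hV⟩ := exists_kerIs w s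
  let W : AddSubgroup M → S.Opens := fun N => ⨆ V ∈ {V : S.Opens | KerIs w V N}, V
  have hmem : ∀ N x, x ∈ W N ↔ ∃ V : S.Opens, x ∈ V ∧ KerIs w V N := fun N x => by
    simp only [W, TopologicalSpace.Opens.mem_iSup, Set.mem_setOf_eq]
    exact ⟨fun ⟨V, h, hx⟩ => ⟨V, hx, h⟩, fun ⟨V, hx, h⟩ => ⟨V, h, hx⟩⟩
  refine ⟨W N, N, (hmem N s).2 ⟨V, hsV, hV⟩, ?_, hN, KerIs.glue fun x hx => (hmem N x).1 hx⟩
  rw [← isOpen_compl_iff, isOpen_iff_forall_mem_open]
  intro x hx
  obtain ⟨V', N', hxV', -, hV'⟩ := exists_kerIs w x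
  refine ⟨V', fun y hy hyW => hx ?_, V'.2, hxV'⟩
  obtain ⟨V₁, hy₁, hV₁⟩ := (hmem N y).1 hyW
  exact (hmem N x).2 ⟨V', hxV', hV₁.unique hV' hy₁ hy ▸ hV'⟩

/-- The image over a scheme lying over a piece where the kernel is known. -/
theorem exists_image [QuasiCompact G.hom] (w : Red.DS S M ⟶ G) [IsMonHom w] {U : S.Opens} {N : AddSubgroup M}
    (hN : N.FG) (h : KerIs w U N) {T : Scheme.{u}} (v : T ⟶ S) (hv : Set.range v ⊆ (U : Set S)) :
    ∃ j : Red.DS T N ⟶ Red.bc v G, IsMonHom j ∧ IsClosedImmersion j.left ∧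
      (dsBc v M).hom.hom.hom ≫ Red.DSmap T N.subtype ≫ j = (Over.pullback v).map w := by
  let e := dsBc v M
  haveI : IsMonHom e.inv.hom.hom := e.inv.hom.isMonHom_hom
  have he : e.hom.hom.hom ≫ e.inv.hom.hom = 𝟙 _ := congrArg (fun f => f.hom.hom) e.hom_inv_id
  let u : Red.DS T M ⟶ Red.bc v G := e.inv.hom.hom ≫ (Over.pullback v).map w
  obtain ⟨j, hj, hjm, hju⟩ := exists_image_of_kernel u N fun {D} q χ => by
    rw [← dsPt_bc v M q χ, Category.assoc, show (dsBc v M).hom.hom.hom ≫ u = (Over.pullback v).map w from by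
      rw [← Category.assoc, he, Category.id_comp], ← adjEquiv_comp, MulEquiv.map_eq_one_iff]
    exact h (q ≫ v) (by
      rintro _ ⟨x, rfl⟩
      exact hv ⟨q x, rfl⟩) χ
  haveI : AddGroup.FG N := (AddGroup.fg_iff_addSubgroup_fg N).2 hN
  haveI := hj
  haveI := hjm
  haveI : IsSeparated (Red.bc v G).hom := inferInstanceAs (IsSeparated (pullback.snd G.hom v))
  haveI : QuasiCompact (Red.bc v G).hom := inferInstanceAs (QuasiCompact (pullback.snd G.hom v))
  haveI : LocallyOfFiniteType (Red.bc v G).hom := inferInstanceAs (LocallyOfFiniteType (pullback.snd G.hom v))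
  refine ⟨j, hj, MultClosed.isClosedImmersion_of_mono j, ?_⟩
  rw [hju]
  exact (Category.assoc _ _ _).symm.trans ((congrArg (· ≫ _) he).trans (Category.id_comp _))

end Groth.Agent.MultImage
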