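import Groth.Agent.MaxTorus.ImageLocal
import Groth.Agent.MultClosed.Points
/-!
The kernel of a homomorphism of a diagonalisable group into a separated group, locally on the base.
-/

set_option autoImplicit false
set_option backward.isDefEq.respectTransparency false
set_option backward.isDefEq.respectTransparency.types false
set_option linter.style.haveILetI false
set_option linter.unusedSectionVars false

universe u

open CategoryTheory CategoryTheory.Limits MonoidalCategory CartesianMonoidalCategory MonObj AlgebraicGeometry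

noncomputable section

namespace Groth.Agent.MultImage

open FixedSmooth HomTriv DSMapLib QuotTorus MaxTorus

variable {S : Scheme.{u}} {G : Over S} [GrpObj G] {M : Type} [AddCommGroup M]

/-- Over `V` the kernel of `w` consists of the points killing the characters in `N`. -/
def KerIs (w : Red.DS S M ⟶ G) (V : S.Opens) (N : AddSubgroup M) : Prop :=
  ∀ {D : CommRingCat.{u}} (q : Spec D ⟶ S), Set.range q ⊆ (V : Set S) → ∀ χ : Multiplicative M →* D,
    dsPt M q χ ≫ w = 1 ↔ ∀ n ∈ N, χ (Multiplicative.ofAdd n) = 1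

variable {w : Red.DS S M ⟶ G}

theorem KerIs.mono {V V' : S.Opens} {N : AddSubgroup M} (h : KerIs w V N) (hV : V' ≤ V) : KerIs w V' N :=
  fun q hq χ => h q (hq.trans hV) χ

/-- The subgroup of characters is determined at a point. -/
theorem KerIs.le {V V' : S.Opens} {N N' : AddSubgroup M} (h : KerIs w V N) (h' : KerIs w V' N') {s : S} (hs : s ∈ V)
    (hs' : s ∈ V') : N' ≤ N := by
  let A := MonoidAlgebra (S.residueField s) (Multiplicative (M ⧸ N))
  let q : Spec (CommRingCat.of A) ⟶ S :=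
    Spec.map (CommRingCat.ofHom (algebraMap (S.residueField s) A)) ≫ S.fromSpecResidueField s
  have hq : ∀ {W : S.Opens}, s ∈ W → Set.range q ⊆ (W : Set S) := by
    rintro W hW _ ⟨x, rfl⟩
    rw [Scheme.Hom.comp_apply]
    erw [Scheme.fromSpecResidueField_apply]
    exact hW
  let χ : Multiplicative M →* A :=
    (MonoidAlgebra.of (S.residueField s) (Multiplicative (M ⧸ N))).comp (QuotientAddGroup.mk' N).toMultiplicative
  have h1 : dsPt M (B := CommRingCat.of A) q χ ≫ w = 1 := (h q (hq hs) χ).2 fun n hn => by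
    show MonoidAlgebra.single (Multiplicative.ofAdd (QuotientAddGroup.mk' N n)) 1 = 1
    rw [show QuotientAddGroup.mk' N n = 0 from (QuotientAddGroup.eq_zero_iff n).2 hn]
    rfl
  intro n hn
  have h2 : MonoidAlgebra.single (Multiplicative.ofAdd (QuotientAddGroup.mk' N n)) (1 : S.residueField s) =
      MonoidAlgebra.single 1 1 := ((h' q (hq hs') χ).1 h1 n hn).trans MonoidAlgebra.one_def
  exact (QuotientAddGroup.eq_zero_iff n).1
    (Multiplicative.ofAdd.injective ((MonoidAlgebra.single_left_inj one_ne_zero).1 h2))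

theorem KerIs.unique {V V' : S.Opens} {N N' : AddSubgroup M} (h : KerIs w V N) (h' : KerIs w V' N') {s : S}
    (hs : s ∈ V) (hs' : s ∈ V') : N = N' :=
  le_antisymm (h'.le h hs' hs) (h.le h' hs hs')

theorem eq_zero_of_local {D : Type u} [CommRing D] (x : D)
    (h : ∀ y : PrimeSpectrum D, ∃ f, f ∉ y.asIdeal ∧ algebraMap D (Localization.Away f) x = 0) : x = 0 := by
  by_contra hx
  obtain ⟨m, hm, hle⟩ := Ideal.exists_le_maximal (Submodule.colon ⊥ {x}) fun he => hx (by
    have h1 := Submodule.mem_colon_singleton.1 (he ▸ Submodule.mem_top (x := (1 : D)))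
    rwa [_root_.one_smul, Submodule.mem_bot] at h1)
  obtain ⟨f, hf, hfx⟩ := h ⟨m, hm.isPrime⟩
  obtain ⟨⟨_, k, rfl⟩, hk⟩ := (IsLocalization.map_eq_zero_iff (Submonoid.powers f) _ _).1 hfx
  exact hf (hm.isPrime.mem_of_pow_mem k (hle (Submodule.mem_colon_singleton.2 (by simpa using hk))))

variable [IsSeparated G.hom]

/-- Kernels glue. -/
theorem KerIs.glue {U : S.Opens} {N : AddSubgroup M} (h : ∀ s ∈ U, ∃ V : S.Opens, s ∈ V ∧ KerIs w V N) :
    KerIs w U N := by
  intro D q hq χ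
  have hloc : ∀ y : PrimeSpectrum D, ∃ f, f ∉ y.asIdeal ∧
      (dsPt M (B := CommRingCat.of (Localization.Away f)) (Spec.map (CommRingCat.ofHom (algebraMap D (Localization.Away f))) ≫ q)
        ((algebraMap D (Localization.Away f)).toMonoidHom.comp χ) ≫ w = 1 ↔
          ∀ n ∈ N, algebraMap D (Localization.Away f) (χ (Multiplicative.ofAdd n)) = 1) := fun y => by
    obtain ⟨V, hyV, hV⟩ := h _ (hq ⟨y, rfl⟩)
    obtain ⟨_, ⟨f, rfl⟩, hfy, hsub⟩ :=
      PrimeSpectrum.isTopologicalBasis_basic_opens.exists_subset_of_mem_open hyV (q ⁻¹ᵁ V).2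
    refine ⟨f, hfy, hV _ ?_ _⟩
    rintro _ ⟨x, rfl⟩
    rw [Scheme.Hom.comp_apply]
    exact hsub ((PrimeSpectrum.localization_away_comap_range (Localization.Away f) f).le ⟨x, rfl⟩)
  choose f hf hiff using hloc
  have hcomp : ∀ y, dsPt M (B := CommRingCat.of (Localization.Away (f y)))
      (Spec.map (CommRingCat.ofHom (algebraMap D (Localization.Away (f y)))) ≫ q)
      ((algebraMap D (Localization.Away (f y))).toMonoidHom.comp χ) =
      (Over.homMk (Spec.map (CommRingCat.ofHom (algebraMap D (Localization.Away (f y))))) rfl :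
        Over.mk (Spec.map (CommRingCat.ofHom (algebraMap D (Localization.Away (f y)))) ≫ q) ⟶ Over.mk q) ≫
        dsPt M q χ := fun y =>
    (MultClosed.dsPt_nat q _ (CommRingCat.ofHom (algebraMap D (Localization.Away (f y)))) rfl χ).symm
  constructor
  · intro h1 n hn
    refine sub_eq_zero.1 (eq_zero_of_local _ fun y => ⟨f y, hf y, ?_⟩)
    rw [map_sub, map_one, sub_eq_zero]
    refine (hiff y).1 ?_ n hn
    rw [hcomp, Category.assoc, h1, MonObj.comp_one]
  · intro h1
    obtain ⟨J, hJ, -⟩ := exists_eq_ideal (dsPt M q χ ≫ w) 1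
    have hJ0 : J ≤ RingHom.ker (𝟙 D : D ⟶ D).hom := fun j hj => RingHom.mem_ker.2
      (eq_zero_of_local j fun y => ⟨f y, hf y, RingHom.mem_ker.1 ((hJ (D := CommRingCat.of (Localization.Away (f y)))
        (CommRingCat.ofHom (algebraMap D (Localization.Away (f y))))).2 (by
          have h2 := (hiff y).2 fun n hn => by rw [h1 n hn, map_one]
          rw [hcomp, Category.assoc, ← MonObj.comp_one (Over.homMk (Spec.map (CommRingCat.ofHom
            (algebraMap D (Localization.Away (f y))))) rfl : _ ⟶ Over.mk q)] at h2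
          exact congrArg CommaMorphism.left h2) hj)⟩)
    refine Over.OverMorphism.ext ?_
    have := (hJ (𝟙 D)).1 hJ0
    rwa [Spec.map_id, Category.id_comp, Category.id_comp] at this

/-- The kernel ideal is finitely generated. -/
theorem exists_ker_ideal_fg [LocallyOfFiniteType G.hom] {B : CommRingCat.{u}} {t : Spec B ⟶ S}
    (σ : Split (Red.DS S M) t M) (u : Red.DS S M ⟶ G) :
    ∃ J₀ : Ideal (GA B M), J₀.FG ∧ ∀ {D : CommRingCat.{u}} (g : B ⟶ D) (χ : Multiplicative M →* D),
      J₀ ≤ RingHom.ker (gev g χ).hom ↔ σ.pt D (Spec.map g) χ ≫ u = 1 := by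
  obtain ⟨J₀, hJ₀, hfg⟩ := exists_eq_ideal (univ σ ≫ u) 1
  refine ⟨J₀, hfg inferInstance, fun {D} g χ => ?_⟩
  let k : Over.mk (Spec.map g ≫ t) ⟶ Over.mk (Spec.map (gc B M) ≫ t) := Over.homMk (Spec.map (gev g χ)) (by
    show Spec.map _ ≫ Spec.map _ ≫ t = _
    rw [← Category.assoc, ← Spec.map_comp]
    congr 2
    exact CommRingCat.hom_ext (L_comp_single g.hom χ))
  have hk : k ≫ univ σ = σ.pt D (Spec.map g) χ := Over.OverMorphism.ext (pt_left σ g χ).symm
  rw [hJ₀, ← hk]
  refine ⟨fun h => ?_, fun h => ?_⟩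
  · rw [Category.assoc, show k ≫ univ σ ≫ u = k ≫ 1 from Over.OverMorphism.ext h, MonObj.comp_one]
  · exact congrArg CommaMorphism.left (((Category.assoc _ _ _).symm.trans h).trans (MonObj.comp_one k).symm)

theorem L_eq_of_eq_on {B D : CommRingCat.{u}} (g : B →+* D) (χ χ' : Multiplicative M →* D) (j : GA B M)
    (h : ∀ m ∈ (MonoidAlgebra.coeff (j : MonoidAlgebra B (Multiplicative M))).support, χ m = χ' m) :
    L g χ j = L g χ' j := by
  have hj : j = ∑ m ∈ (MonoidAlgebra.coeff (j : MonoidAlgebra B (Multiplicative M))).support,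
      MonoidAlgebra.single m (MonoidAlgebra.coeff (j : MonoidAlgebra B (Multiplicative M)) m) :=
    MonoidAlgebra.coeff_injective (by
      rw [MonoidAlgebra.coeff_sum]
      exact (Finsupp.sum_single _).symm.trans (Finset.sum_congr rfl fun m _ => MonoidAlgebra.coeff_single _ _ |>.symm))
  rw [hj, map_sum, map_sum]
  exact Finset.sum_congr rfl fun m hm => by simp [h m hm]

/-- Locally the kernel is cut out by a finitely generated group of characters. -/
theorem exists_kerIs [LocallyOfFiniteType G.hom] (w : Red.DS S M ⟶ G) [IsMonHom w] (s : S) :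
    ∃ (V : S.Opens) (N : AddSubgroup M), s ∈ V ∧ N.FG ∧ KerIs w V N := by
  classical
  obtain ⟨V₀, hV₀, hsV₀, -⟩ := exists_isAffineOpen_mem_and_subset (x := s) (U := ⊤) trivial
  let t : Spec Γ(S, V₀) ⟶ S := hV₀.fromSpec
  obtain ⟨P, hPs⟩ : ∃ P : Spec Γ(S, V₀), t P = s := hV₀.range_fromSpec.superset hsV₀
  obtain ⟨J₀, ⟨gens, hgens⟩, hJ⟩ := exists_ker_ideal_fg (dsSplit M t) w
  let M₀ : AddSubgroup M := AddSubgroup.closure ((fun m => Multiplicative.toAdd m) '' ⋃ j ∈ (gens : Set (GA Γ(S, V₀) M)),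
    ((MonoidAlgebra.coeff (j : MonoidAlgebra Γ(S, V₀) (Multiplicative M))).support : Set (Multiplicative M)))
  have hM₀ : M₀.FG := AddSubgroup.fg_iff _ |>.2
    ⟨_, rfl, (gens.finite_toSet.biUnion fun j _ => Finset.finite_toSet _).image _⟩
  haveI : AddGroup.FG M₀ := (AddGroup.fg_iff_addSubgroup_fg M₀).2 hM₀
  have hker : ∀ {D : CommRingCat.{u}} (g : Γ(S, V₀) ⟶ D) (χ : Multiplicative M →* D),
      (∀ n ∈ M₀, χ (Multiplicative.ofAdd n) = 1) → dsPt M (Spec.map g ≫ t) χ ≫ w = 1 := fun {D} g χ hχ => by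
    refine (hJ g χ).1 ?_
    rw [← hgens, Ideal.span_le]
    intro j hj
    refine RingHom.mem_ker.2 ?_
    have e : L g.hom χ j = L g.hom (1 : Multiplicative M →* D) j := L_eq_of_eq_on g.hom χ 1 j fun m hm =>
      hχ (Multiplicative.toAdd m) (AddSubgroup.subset_closure ⟨m, Set.mem_biUnion hj hm, rfl⟩)
    show L g.hom χ j = 0
    rw [e]
    exact RingHom.mem_ker.1 ((hJ g 1).2 (by rw [map_one, MonObj.one_comp]) (hgens ▸ Ideal.subset_span hj))
  -- the induced homomorphism on the subgroup of characters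
  let e := dsBc t M
  haveI : IsMonHom e.inv.hom.hom := e.inv.hom.isMonHom_hom
  let u : Red.DS (Spec Γ(S, V₀)) M ⟶ Red.bc t G := e.inv.hom.hom ≫ (Over.pullback t).map w
  have he : e.hom.hom.hom ≫ e.inv.hom.hom = 𝟙 _ := congrArg (fun f => f.hom.hom) e.hom_inv_id
  have hu : ∀ {D : CommRingCat.{u}} (q : Spec D ⟶ Spec Γ(S, V₀)) (χ : Multiplicative M →* D),
      dsPt M q χ ≫ u = 1 ↔ dsPt M (q ≫ t) χ ≫ w = 1 := fun {D} q χ => by
    rw [← dsPt_bc t M q χ, Category.assoc, show (dsBc t M).hom.hom.hom ≫ u = (Over.pullback t).map w from by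
      rw [← Category.assoc, he, Category.id_comp], ← adjEquiv_comp, MulEquiv.map_eq_one_iff]
  haveI := isMonHom_DSmap (Spec Γ(S, V₀)) M₀.subtype
  have hq : QProp (Red.DSmap (Spec Γ(S, V₀)) (QuotientAddGroup.mk' M₀)) (Red.DSmap (Spec Γ(S, V₀)) M₀.subtype) :=
    ⟨isFpqc_DSmap _ _ M₀.subtype_injective,
      comp_eq_one _ _ (AddMonoidHom.ext fun n => (QuotientAddGroup.eq_zero_iff _).2 n.2),
      fun k hk => exists_lift_of_comp_eq_one _ _ (QuotientAddGroup.mk'_surjective M₀)
        (by rw [QuotientAddGroup.ker_mk', AddSubgroup.range_subtype]) k hk⟩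
  have hone : Red.DSmap (Spec Γ(S, V₀)) (QuotientAddGroup.mk' M₀) ≫ u = 1 := hom_ext_affine _ _ fun D q z => by
    obtain ⟨χ, rfl⟩ := (dsPt (M ⧸ M₀) q).surjective z
    rw [MonObj.comp_one, ← Category.assoc, dsPt_comp, hu]
    obtain ⟨g, rfl⟩ := Spec.map_surjective q
    refine hker g _ fun n hn => ?_
    show χ (Multiplicative.ofAdd (QuotientAddGroup.mk' M₀ n)) = 1
    rw [show QuotientAddGroup.mk' M₀ n = 0 from (QuotientAddGroup.eq_zero_iff _).2 hn]
    exact map_one χ
  obtain ⟨g₀, hg₀, hg₀m⟩ := hq.exists_hom u hone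
  haveI := hg₀m
  haveI : LocallyOfFiniteType (Red.bc t G).hom := inferInstanceAs (LocallyOfFiniteType (pullback.snd G.hom t))
  haveI : IsSeparated (Red.bc t G).hom := inferInstanceAs (IsSeparated (pullback.snd G.hom t))
  obtain ⟨f, N₁, hf, hkey⟩ := MultKer.exists_normal_form (dsSplit M₀ (𝟙 (Spec Γ(S, V₀)))) g₀ (Or.inr inferInstance) P
  let N : AddSubgroup M := N₁.toAddSubgroup'.map M₀.subtype
  refine ⟨t ''ᵁ PrimeSpectrum.basicOpen f, N, ⟨P, hf, hPs⟩, ?_, ?_⟩
  · haveI : Module.Finite ℤ M₀ := Module.Finite.iff_addGroup_fg.2 inferInstance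
    obtain ⟨b, hb⟩ := (Submodule.fg_iff_addSubgroup_fg _).1
      (IsNoetherian.noetherian (AddSubgroup.toIntSubmodule N₁.toAddSubgroup'))
    refine ⟨b.image M₀.subtype, ?_⟩
    rw [Finset.coe_image, ← AddMonoidHom.map_closure, hb]
    rfl
  intro D q hq χ
  have hr : Set.range q ⊆ Set.range t := by
    intro y hy
    obtain ⟨x, -, hx⟩ := hq hy
    exact ⟨x, hx⟩
  obtain ⟨a, ha⟩ := Spec.map_surjective (IsOpenImmersion.lift t q hr)
  have hat : Spec.map a ≫ t = q := by rw [ha]; exact IsOpenImmersion.lift_fac _ _ _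
  have hau : IsUnit (a.hom f) := by
    by_contra hu
    obtain ⟨m, hm, hfm⟩ := exists_max_ideal_of_mem_nonunits hu
    let y : Spec D := ⟨m, hm.isPrime⟩
    obtain ⟨x, hx, hxy⟩ := hq ⟨y, rfl⟩
    have e' : t (Spec.map a y) = t x := by
      rw [← Scheme.Hom.comp_apply, hat]
      exact hxy.symm
    have := t.isOpenEmbedding.injective e'
    exact hx (show f ∈ (x : PrimeSpectrum _).asIdeal by rw [← this]; exact hfm)
  subst hat
  rw [← hu, ← hg₀, ← Category.assoc, dsPt_comp]
  have hcongr : ∀ (p p' : Spec D ⟶ Spec Γ(S, V₀)), p = p' → ∀ χ₀ : Multiplicative M₀ →* D,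
      (dsPt M₀ p χ₀ ≫ g₀ = 1 ↔ dsPt M₀ p' χ₀ ≫ g₀ = 1) := by
    rintro p p' rfl _
    rfl
  rw [hcongr _ (Spec.map a ≫ 𝟙 _) (Category.comp_id _).symm]
  refine (hkey a _ hau).trans ⟨fun h n hn => ?_, fun h n hn => ?_⟩
  · obtain ⟨n₁, hn₁, rfl⟩ := AddSubgroup.mem_map.1 hn
    exact h _ hn₁
  · exact h _ (AddSubgroup.mem_map.2 ⟨Multiplicative.toAdd n, hn, rfl⟩)

end Groth.Agent.MultImage
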